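import Groth.Agent.Sga3B.Parab.PbK2BFin
import Groth.Agent.Sga3B.Parab.PbAll910
import Groth.Agent.Sga3B.Parab.DynFib678
import Groth.Agent.Sga3B.Parab.DSHom
import Groth.Agent.Sga3B.Parab.Func
import Groth.Agent.Sga3B.Parab.BorelEt165
import Groth.Agent.Sga3B.SplitBc264
import Groth.Agent.Sga3B.TorusBc
import Groth.Agent.Sga3B.Parab.DynLevi998
import Groth.Agent.Sga3B.Parab.Inter
import Groth.Agent.Sga3B.Parab.K3b143
import Groth.Agent.Sga3B.Parab.DynGeom678
import Groth.Agent.Sga3B.Parab.PbFinal910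
import Groth.Agent.S2999

/-!
# Borel subgroups containing a split maximal torus over a field are dynamic

`G` reductive over a field `k`, `T` a split maximal torus, `B ⊇ T` a Borel subgroup: there is a
cocharacter `λ` of `T` over `k` with `B = P_G(λ)` and `T = Z_G(λ)`.
-/

set_option autoImplicit false
set_option linter.unusedSectionVars false

universe u

open CategoryTheory MonoidalCategory CartesianMonoidalCategory MonObj GrpObj AlgebraicGeometry Limits
open Groth.Agent.Sga3B Groth.Agent.Sga3B.Parab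
open Groth.Agent.Sga3B.Parab.DynExist998 Groth.Agent.Sga3B.Parab.DynBc998
open Groth.Agent.Sga3B.Parab.FibIsoSch

namespace Groth.Agent.Agf.H607.OppBorel

section Fibres

variable {S : Scheme.{u}} {G B : Over S} [GrpObj G] [GrpObj B]

/-- `P_G(λ) = B` can be checked on geometric fibres, for a smooth closed subgroup `B` containing
`λ`. -/
theorem isDynP_of_fibres [IsAffineHom G.hom] [Smooth G.hom] [Smooth B.hom] (lam : Red.Gm S ⟶ B)
    [IsMonHom lam] (i : B ⟶ G) [IsMonHom i] [IsClosedImmersion i.left]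
    (h : ∀ s : S, ∃ (K : Type u) (_ : Field K) (x : Spec (CommRingCat.of K) ⟶ S),
      x (IsLocalRing.closedPoint K) = s ∧
        IsDynP (bcLam (lam ≫ i) x) ((Over.pullback x).map i)) :
    IsDynP (lam ≫ i) i := by
  have himono : Mono i := by
    have : Mono ((Over.forget S).map i) := inferInstanceAs (Mono i.left)
    exact (Over.forget S).mono_of_mono_map this
  have hBa : IsAffineHom B.hom := isAffineHom_of_closed i inferInstance inferInstance
  have h1 : IsDynP lam (𝟙 B) := by
    refine DynFib678.isDynP_id_of_fibres fun s => ?_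
    obtain ⟨K, _, x, hx, hd⟩ := h s
    refine ⟨K, inferInstance, x, hx, ?_⟩
    rw [DynFib678.isDynP_id_iff]
    intro X g
    have hcl : IsClosedImmersion ((Over.pullback x).map i).left :=
      Inter.isClosedImmersion_bc x i inferInstance
    rw [bcLam_comp] at hd
    exact ptP_of_isDynP _ hd g
  rw [DynFib678.isDynP_id_iff] at h1
  obtain ⟨P, _, p, hp, hpc⟩ := exists_isDynP (lam ≫ i)
  have hps := hp.smooth
  have hpm := hp.isMonHom
  have hpmono := hp.mono
  obtain ⟨f, hf⟩ := (hp.iff_ptP B i).2 (by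
    have := Func.ptP_map i (h1 B (𝟙 B))
    rwa [Category.id_comp] at this)
  have hfc : IsClosedImmersion f.left := by
    have h2 : IsClosedImmersion (f.left ≫ p.left) := by
      rw [← Over.comp_left, hf]; infer_instance
    exact .of_comp f.left p.left
  have hfm : Mono f := by
    have : Mono (f ≫ p) := by rw [hf]; infer_instance
    exact mono_of_mono f p
  have hiso : IsIso f := by
    refine isIso_of_fibres f fun s => ?_
    obtain ⟨K, _, x, hx, hd⟩ := h s
    refine ⟨K, inferInstance, x, hx, ?_⟩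
    obtain ⟨φ, -, hφ⟩ := hd.exists_iso (hp.bc x)
    have h3 : (Over.pullback x).map f = φ.hom := by
      have := (hp.bc x).mono
      rw [← cancel_mono ((Over.pullback x).map p), hφ, ← Functor.map_comp, hf]
    rw [h3]
    infer_instance
  refine ⟨inferInstance, himono, fun X g => ?_⟩
  rw [← hp.iff_ptP X g]
  constructor
  · rintro ⟨x, rfl⟩
    exact ⟨x ≫ f, by rw [Category.assoc, hf]⟩
  · rintro ⟨x, rfl⟩
    exact ⟨x ≫ inv f, by rw [← hf, Category.assoc, IsIso.inv_hom_id_assoc]⟩

/-- `Z_G(λ) = B` can be checked on geometric fibres, for a smooth closed subgroup `B` containing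
`λ`. -/
theorem isDynZ_of_fibres [IsAffineHom G.hom] [Smooth G.hom] [Smooth B.hom] (lam : Red.Gm S ⟶ B)
    [IsMonHom lam] (i : B ⟶ G) [IsMonHom i] [IsClosedImmersion i.left]
    (h : ∀ s : S, ∃ (K : Type u) (_ : Field K) (x : Spec (CommRingCat.of K) ⟶ S),
      x (IsLocalRing.closedPoint K) = s ∧
        IsDynZ (bcLam (lam ≫ i) x) ((Over.pullback x).map i)) :
    IsDynZ (lam ≫ i) i := by
  have himono : Mono i := by
    have : Mono ((Over.forget S).map i) := inferInstanceAs (Mono i.left)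
    exact (Over.forget S).mono_of_mono_map this
  have hBa : IsAffineHom B.hom := isAffineHom_of_closed i inferInstance inferInstance
  have h1 : IsDynZ lam (𝟙 B) := by
    refine DynFib678.isDynZ_id_of_fibres fun s => ?_
    obtain ⟨K, _, x, hx, hd⟩ := h s
    refine ⟨K, inferInstance, x, hx, ?_⟩
    rw [DynFib678.isDynZ_id_iff]
    intro X g
    rw [bcLam_comp] at hd
    have := hd.isMonHom
    have := hd.mono
    rw [← ptZ_map_iff ((Over.pullback x).map i)]
    exact (hd.iff_ptZ _ _).1 ⟨g, rfl⟩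
  rw [DynFib678.isDynZ_id_iff] at h1
  obtain ⟨P, _, p, hp, hpc⟩ := exists_isDynZ (lam ≫ i)
  have hps := hp.smooth
  have hpm := hp.isMonHom
  have hpmono := hp.mono
  obtain ⟨f, hf⟩ := (hp.iff_ptZ B i).2 (by
    have := Func.ptZ_map i (h1 B (𝟙 B))
    rwa [Category.id_comp] at this)
  have hfc : IsClosedImmersion f.left := by
    have h2 : IsClosedImmersion (f.left ≫ p.left) := by
      rw [← Over.comp_left, hf]; infer_instance
    exact .of_comp f.left p.left
  have hfm : Mono f := by
    have : Mono (f ≫ p) := by rw [hf]; infer_instance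
    exact mono_of_mono f p
  have hiso : IsIso f := by
    refine isIso_of_fibres f fun s => ?_
    obtain ⟨K, _, x, hx, hd⟩ := h s
    refine ⟨K, inferInstance, x, hx, ?_⟩
    obtain ⟨φ, -, hφ⟩ := hd.exists_iso (hp.bc x)
    have h3 : (Over.pullback x).map f = φ.hom := by
      have := (hp.bc x).mono
      rw [← cancel_mono ((Over.pullback x).map p), hφ, ← Functor.map_comp, hf]
    rw [h3]
    infer_instance
  refine ⟨inferInstance, himono, fun X g => ?_⟩
  rw [← hp.iff_ptZ X g]
  constructor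
  · rintro ⟨x, rfl⟩
    exact ⟨x ≫ f, by rw [Category.assoc, hf]⟩
  · rintro ⟨x, rfl⟩
    exact ⟨x ≫ inv f, by rw [← hf, Category.assoc, IsIso.inv_hom_id_assoc]⟩

end Fibres

section Field

variable {k : Type u} [Field k]

/-- The maximal torus `T ⊆ B ⊆ G` on a geometric fibre. -/
lemma isMaximalTorus_sub {S : Scheme.{u}} {G B T : Over S} [GrpObj G] [GrpObj B] [GrpObj T]
    {iB : B ⟶ G} [IsMonHom iB] [Mono iB] {t : T ⟶ B} [IsMonHom t] (hT : Red.IsMaximalTorus (t ≫ iB)) (s : S) :
    Red.IsMaximalTorus ((Over.pullback (Red.geomPt s)).map t) := by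
  obtain ⟨h1, h2, h3, h4⟩ := hT
  have hm : Mono t := mono_of_mono t iB
  refine (RG.BrMax.isMaximalTorus_iff_abs _).2
    ⟨inferInstance, inferInstance, TorusBc.isTorus_bc _ h3, fun T' _ j _ _ f hT' hf => ?_⟩
  exact h4 s T' (j ≫ (Over.pullback (Red.geomPt s)).map iB) f hT'
    (by rw [← Category.assoc, hf, Functor.map_comp])

/-- Cocharacters of a split torus on a fibre come from the base. -/
theorem exists_coch {S : Scheme.{u}} {T : Over S} [GrpObj T] {M : Type} [AddCommGroup M]
    (e : Grp.mk T ≅ Grp.mk (Red.DS S M)) {R : Type u} [CommRing R] [IsDomain R]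
    (x : Spec (CommRingCat.of R) ⟶ S) (mu : Red.Gm (Spec (CommRingCat.of R)) ⟶ Red.bc x T)
    [IsMonHom mu] : ∃ y : M →+ ℤ, mu = bcLam (Red.DSmap S y ≫ e.inv.hom.hom) x := by
  let a : Grp.mk (Red.bc x T) ≅ Grp.mk (Red.DS (Spec (CommRingCat.of R)) M) :=
    BcIso.bcMapIso x e ≪≫ TorusAlgClosed.dsBcIso x M
  have ha : IsMonHom a.hom.hom.hom := a.hom.hom.isMonHom_hom
  obtain ⟨y, hy⟩ := DSHom.exists_DSmap (mu ≫ a.hom.hom.hom)
  refine ⟨y, ?_⟩
  rw [bcLam_DSmap, ← hy]
  have h1 : a.hom.hom.hom ≫ a.inv.hom.hom = 𝟙 _ := SplitBc264.map_hom_inv a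
  have h2 : a.inv.hom.hom =
    (TorusAlgClosed.dsBcIso x M).inv.hom.hom ≫ (Over.pullback x).map e.inv.hom.hom := rfl
  rw [← h2, Category.assoc, h1]
  exact (Category.comp_id _).symm

/-- A Borel subgroup `B` containing a split maximal torus `T` of a reductive group over a field is
`P_G(λ)` for a cocharacter `λ` of `T` over the field, with `Z_G(λ) = T`. -/
theorem exists_cochar (G : Over (Spec (CommRingCat.of k))) [GrpObj G] (hG : Red.IsReductive G)
    (T : Over (Spec (CommRingCat.of k))) [GrpObj T] {M : Type} [AddCommGroup M]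
    (hs : Red.IsSplitTorusWith M T)
    (B : Over (Spec (CommRingCat.of k))) [GrpObj B] (iB : B ⟶ G) (hB : Red.IsBorel iB) (t : T ⟶ B)
    (hT : Red.IsMaximalTorus (t ≫ iB)) :
    ∃ lam : Red.Gm (Spec (CommRingCat.of k)) ⟶ T, IsMonHom lam ∧ IsMonHom t ∧
      IsDynP (lam ≫ t ≫ iB) iB ∧ IsDynZ (lam ≫ t ≫ iB) (t ≫ iB) := by
  obtain ⟨hBm, hBc, hBs, hBo⟩ := hB
  have hGa := hG.1
  have hGs := hG.2.1
  have hTG := hT.1
  have hTmono := hT.2.1
  have hTT := hT.2.2.1
  have hBmono : Mono iB := by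
    have : Mono ((Over.forget _).map iB) := inferInstanceAs (Mono iB.left)
    exact (Over.forget _).mono_of_mono_map this
  have htm : IsMonHom t := DynLevi998.isMonHom_of_comp_mono (p := iB)
  have hTs : Smooth T.hom := TorusAlgClosed.smooth_of_isTorus hTT
  have hTc : IsClosedImmersion (t ≫ iB).left := AdCentre.isClosedImmersion_of_mono hGa (t ≫ iB) hs
  let s : Spec (CommRingCat.of k) := IsLocalRing.closedPoint k
  have hall : ∀ s' : Spec (CommRingCat.of k), s' = s := fun s' => Subsingleton.elim _ _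
  obtain ⟨e⟩ := hs
  obtain ⟨-, mu, hmu, hP, hZ⟩ := PbK2BFin.dynK2B _ (Red.geomFibre s G) (Red.geomFibre s B)
    ((Over.pullback (Red.geomPt s)).map iB) (hG.2.2 s) (hBo s) (Red.geomFibre s T)
    ((Over.pullback (Red.geomPt s)).map t) (isMaximalTorus_sub hT s)
  obtain ⟨y, hmu2⟩ := exists_coch e (Red.geomPt s) mu
  have hym := isMonHom_DSmap (S := Spec (CommRingCat.of k)) y
  let lam : Red.Gm (Spec (CommRingCat.of k)) ⟶ T := Red.DSmap (Spec (CommRingCat.of k)) y ≫ e.inv.hom.hom
  have hlam : IsMonHom lam := inferInstanceAs (IsMonHom (Red.DSmap (Spec (CommRingCat.of k)) y ≫ e.inv.hom.hom))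
  have hx : Red.geomPt s (IsLocalRing.closedPoint _) = s := hall _
  have hbl : mu ≫ (Over.pullback (Red.geomPt s)).map t ≫ (Over.pullback (Red.geomPt s)).map iB =
      bcLam (lam ≫ t ≫ iB) (Red.geomPt s) := by
    rw [hmu2, ← Functor.map_comp]
    exact (bcLam_comp lam (t ≫ iB) (Red.geomPt s)).symm
  refine ⟨lam, hlam, htm, ?_, ?_⟩
  · have h5 := isDynP_of_fibres (lam ≫ t) iB fun s' => ⟨_, inferInstance, Red.geomPt s,
      (hall s').symm ▸ hx, by rw [Category.assoc, ← hbl]; exact hP⟩
    rwa [Category.assoc] at h5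
  · refine isDynZ_of_fibres lam (t ≫ iB) fun s' => ⟨_, inferInstance, Red.geomPt s,
      (hall s').symm ▸ hx, ?_⟩
    rw [← hbl, Functor.map_comp]
    exact hZ

/-- A Borel subgroup is a parabolic subgroup. -/
lemma isParabolic_of_isBorel {S : Scheme.{u}} {G B : Over S} [GrpObj G] [GrpObj B] {iB : B ⟶ G}
    (hB : Red.IsBorel iB) : Red.IsParabolic iB := by
  obtain ⟨h1, h2, h3, h4⟩ := hB
  refine ⟨h1, h2, h3, fun s => ?_⟩
  have h5 := h4 s
  exact ⟨h5.1, h5.2.1, h5.2.2.1, _, inferInstance, 𝟙 _, by rw [Category.id_comp]; exact h5⟩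

end Field

end Groth.Agent.Agf.H607.OppBorel
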